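import Groth.Agent.HomogFactorLib.Basic
import Groth.Agent.ProjPtsLib.Basic
import Mathlib.RingTheory.Polynomial.UniqueFactorization

/-!
# At most `m n` common zeros of two coprime plane forms of degrees `m`, `n`
-/

set_option autoImplicit false

universe u

open MvPolynomial

noncomputable section

namespace PlaneBezoutLib

variable {k : Type u} [Field k]

local notation "H" => homogeneousSubmodule (Fin 3) k

theorem two_finrank (d : ℕ) : 2 * Module.finrank k (H d) = (d + 1) * (d + 2) := by
  rw [Groth.Agent.ProjPtsLib.finrank_homogeneous, show 3 + d - 1 = d + 2 by omega,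
    ← Nat.choose_symm (by omega), show d + 2 - d = 2 by omega, Nat.choose_two_right,
    show d + 2 - 1 = d + 1 by omega, Nat.mul_div_cancel', mul_comm]
  exact (Nat.even_mul_succ_self (d + 1)).two_dvd.trans (by rw [mul_comm])

instance (d : ℕ) : FiniteDimensional k (H d) := by
  refine Module.finite_of_finrank_pos ?_
  have := two_finrank (k := k) d
  nlinarith

theorem card_le {m n : ℕ} {q c : MvPolynomial (Fin 3) k} (hq : q.IsHomogeneous m) (hc : c.IsHomogeneous n)
    (hq0 : q ≠ 0) (hc0 : c ≠ 0) (hqc : IsRelPrime q c) (T : Finset (Fin 3 → k))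
    (h0 : ∀ v ∈ T, v ≠ 0) (hdist : ∀ v ∈ T, ∀ w ∈ T, v ≠ w → ∀ r : k, v ≠ r • w)
    (hTq : ∀ v ∈ T, eval v q = 0) (hTc : ∀ v ∈ T, eval v c = 0) : T.card ≤ m * n := by
  classical
  by_contra hlt
  obtain ⟨T', hT', hcard⟩ := Finset.exists_subset_card_eq (s := T) (n := m * n + 1) (by omega)
  obtain ⟨s, hs⟩ : ∃ s, s = m * n := ⟨_, rfl⟩
  let ev : H (m + n + s) →ₗ[k] (T' → k) :=
    LinearMap.pi fun v => (MvPolynomial.aeval (v : Fin 3 → k)).toLinearMap.comp (Submodule.subtype _)
  have hev : ∀ (p : H (m + n + s)) (v : T'), ev p v = eval (v : Fin 3 → k) p.1 := fun p v => rfl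
  have hsurj : Function.Surjective ev := by
    have key : ∀ v : T', ∃ p, ev p = Pi.single v 1 := by
      intro v
      obtain ⟨F, hF, hFv, hFw⟩ := Groth.Agent.ProjPtsLib.exists_form (T'.erase v.1) (m + n + s)
        (by rw [Finset.card_erase_of_mem v.2]; omega) v.1 (h0 _ (hT' v.2))
        (fun w hw => hdist _ (hT' v.2) _ (hT' (Finset.mem_of_mem_erase hw)) (Finset.ne_of_mem_erase hw).symm)
      refine ⟨(eval v.1 F)⁻¹ • ⟨F, hF⟩, funext fun w => ?_⟩
      rw [hev]
      rcases eq_or_ne w v with rfl | hwv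
      · simp [smul_eval, hFv]
      · have h1 : eval w.1 F = 0 := hFw _ (Finset.mem_erase.2 ⟨fun e => hwv (Subtype.ext e), w.2⟩)
        simp [smul_eval, h1, hwv]
    choose p hp using key
    intro y
    exact ⟨∑ v, y v • p v, by rw [map_sum]; simp_rw [map_smul, hp]; funext w; simp [Pi.single_apply]⟩
  let φ : H (n + s) × H (m + s) →ₗ[k] H (m + n + s) :=
    LinearMap.coprod
      (((LinearMap.mulRight k q).comp (Submodule.subtype _)).codRestrict _ fun a => by
        have := (a.2 : a.1.IsHomogeneous (n + s)).mul hq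
        rwa [show n + s + m = m + n + s by ring] at this)
      (((LinearMap.mulRight k c).comp (Submodule.subtype _)).codRestrict _ fun a => by
        have := (a.2 : a.1.IsHomogeneous (m + s)).mul hc
        rwa [show m + s + n = m + n + s by ring] at this)
  have hφ : ∀ p, (φ p).1 = p.1.1 * q + p.2.1 * c := fun p => rfl
  let κ : H s →ₗ[k] H (n + s) × H (m + s) :=
    LinearMap.prod
      (((LinearMap.mulRight k c).comp (Submodule.subtype _)).codRestrict _ fun a => by
        have := (a.2 : a.1.IsHomogeneous s).mul hc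
        rwa [show s + n = n + s by ring] at this)
      (-(((LinearMap.mulRight k q).comp (Submodule.subtype _)).codRestrict _ fun a => by
        have := (a.2 : a.1.IsHomogeneous s).mul hq
        rwa [show s + m = m + s by ring] at this))
  have hκ : ∀ a, (κ a).1.1 = a.1 * c ∧ (κ a).2.1 = -(a.1 * q) := fun a => ⟨rfl, rfl⟩
  have hker : LinearMap.ker φ ≤ LinearMap.range κ := by
    rintro ⟨⟨A, hA⟩, ⟨B, hB⟩⟩ hAB
    have e : A * q + B * c = 0 := (hφ (⟨A, hA⟩, ⟨B, hB⟩)).symm.trans (congrArg Subtype.val (LinearMap.mem_ker.1 hAB))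
    obtain ⟨h, rfl⟩ : c ∣ A := hqc.symm.dvd_of_dvd_mul_right (show c ∣ A * q from ⟨-B, by linear_combination e⟩)
    have hB' : B = -(h * q) := mul_right_cancel₀ hc0 (by linear_combination e)
    have hh : h.IsHomogeneous s := by
      rcases eq_or_ne h 0 with rfl | hh0
      · exact isHomogeneous_zero _ _ _
      obtain ⟨e', he'⟩ := HomogFactorLib.exists_isHomogeneous_of_mul hh0 hc0
        (show (h * c).IsHomogeneous (n + s) by rw [mul_comm]; exact hA)
      have h3 : n + e' = n + s := (hc.mul he').inj_right hA (mul_ne_zero hc0 hh0)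
      rwa [show s = e' by omega]
    exact ⟨⟨h, hh⟩, Prod.ext (Subtype.ext (((hκ _).1).trans (mul_comm _ _))) (Subtype.ext (((hκ _).2).trans hB'.symm))⟩
  have hle : LinearMap.range φ ≤ LinearMap.ker ev := by
    rintro _ ⟨p, rfl⟩
    refine LinearMap.mem_ker.2 (funext fun v => ?_)
    rw [hev, hφ, map_add, map_mul, map_mul, hTq _ (hT' v.2), hTc _ (hT' v.2)]
    simp
  have e1 := LinearMap.finrank_range_add_finrank_ker φ
  have e2 := LinearMap.finrank_range_add_finrank_ker ev
  rw [LinearMap.range_eq_top.2 hsurj, finrank_top, Module.finrank_fintype_fun_eq_card, Fintype.card_coe, hcard] at e2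
  rw [Module.finrank_prod] at e1
  have e3 := Submodule.finrank_mono hker
  have e4 := LinearMap.finrank_range_le κ
  have e5 := Submodule.finrank_mono hle
  have d1 := two_finrank (k := k) (n + s)
  have d2 := two_finrank (k := k) (m + s)
  have d3 := two_finrank (k := k) s
  have d4 := two_finrank (k := k) (m + n + s)
  nlinarith

end PlaneBezoutLib
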