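import Groth.Agent.PlaneBezoutLib.Basic
import Mathlib.Algebra.MvPolynomial.PDeriv
import Mathlib.FieldTheory.IsAlgClosed.Basic
import Mathlib.Algebra.CharP.Lemmas
import Mathlib.Algebra.CharP.Algebra
import Mathlib.LinearAlgebra.Projectivization.Basic
import Mathlib.RingTheory.MvPolynomial.EulerIdentity
import Mathlib.GroupTheory.CosetCover
import Mathlib.FieldTheory.IsAlgClosed.Basic

/-!
# Singular points of a reduced plane curve: counting double intersection points
-/

set_option autoImplicit false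
set_option maxHeartbeats 1000000

universe u

open MvPolynomial

noncomputable section

namespace PlaneBezoutLib

variable {k : Type u} [Field k]

local notation "H" => homogeneousSubmodule (Fin 3) k

/-- The derivative in the direction `v`. -/
def dirD (v : Fin 3 → k) : Derivation k (MvPolynomial (Fin 3) k) (MvPolynomial (Fin 3) k) := ∑ i, v i • pderiv i

theorem dirD_apply (v : Fin 3 → k) (p : MvPolynomial (Fin 3) k) : dirD v p = ∑ i, v i • pderiv i p := by
  simp [dirD, Fin.sum_univ_three]

theorem eval_dirD_mul (v P : Fin 3 → k) (p q : MvPolynomial (Fin 3) k) :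
    eval P (dirD v (p * q)) = eval P p * eval P (dirD v q) + eval P q * eval P (dirD v p) := by
  rw [Derivation.leibniz, smul_eq_mul, smul_eq_mul, map_add, map_mul, map_mul]

theorem eval_dirD_sq (v P : Fin 3 → k) (p : MvPolynomial (Fin 3) k) (h : eval P p = 0) :
    eval P (dirD v (p * p)) = 0 := by
  rw [eval_dirD_mul, h, zero_mul, add_zero]

theorem eval_dirD_lin (v P : Fin 3 → k) (φ : (Fin 3 → k) →ₗ[k] k) :
    eval P (dirD v (Groth.Agent.ProjPtsLib.lin φ)) = φ v := by
  conv_rhs => rw [pi_eq_sum_univ' v, map_sum]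
  simp [dirD_apply, Groth.Agent.ProjPtsLib.lin, pderiv_X, Pi.single_apply, smul_eval]

theorem two_mul_card_le {m n : ℕ} {q c : MvPolynomial (Fin 3) k} (hq : q.IsHomogeneous m) (hc : c.IsHomogeneous n)
    (hq0 : q ≠ 0) (hc0 : c ≠ 0) (hqc : IsRelPrime q c) (T : Finset (Fin 3 → k)) (dir : (Fin 3 → k) → Fin 3 → k)
    (h0 : ∀ v ∈ T, v ≠ 0) (hdist : ∀ v ∈ T, ∀ w ∈ T, v ≠ w → ∀ r : k, v ≠ r • w)
    (hdir : ∀ v ∈ T, dir v ∉ Submodule.span k {v})
    (hTq : ∀ v ∈ T, eval v q = 0) (hTc : ∀ v ∈ T, eval v c = 0)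
    (hTq' : ∀ v ∈ T, eval v (dirD (dir v) q) = 0) (hTc' : ∀ v ∈ T, eval v (dirD (dir v) c) = 0) :
    2 * T.card ≤ m * n := by
  classical
  obtain ⟨s, hs⟩ : ∃ s, s = 2 * T.card := ⟨_, rfl⟩
  let ev : H (m + n + s + 1) →ₗ[k] (T → k) × (T → k) :=
    LinearMap.prod
      (LinearMap.pi fun v => (MvPolynomial.aeval (v : Fin 3 → k)).toLinearMap.comp (Submodule.subtype _))
      (LinearMap.pi fun v => ((MvPolynomial.aeval (v : Fin 3 → k)).toLinearMap.comp
        (dirD (dir v)).toLinearMap).comp (Submodule.subtype _))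
  have hev1 : ∀ (p : H (m + n + s + 1)) (v : T), (ev p).1 v = eval (v : Fin 3 → k) p.1 := fun p v => rfl
  have hev2 : ∀ (p : H (m + n + s + 1)) (v : T), (ev p).2 v = eval (v : Fin 3 → k) (dirD (dir v) p.1) := fun p v => rfl
  have hsurj : Function.Surjective ev := by
    have key : ∀ v : T, (∃ p, ev p = (0, Pi.single v 1)) ∧ (∃ p b, ev p = (Pi.single v 1, Pi.single v b)) := by
      intro v
      obtain ⟨φ₀, hφ₀, -⟩ := Groth.Agent.ProjPtsLib.exists_dual_of_not_mem (p := (⊥ : Submodule k (Fin 3 → k)))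
        (by simpa using h0 _ v.2)
      obtain ⟨φ₁, hφ₁, hφ₁'⟩ := Groth.Agent.ProjPtsLib.exists_dual_of_not_mem (hdir _ v.2)
      obtain ⟨F, hF, hFv, hFw⟩ := Groth.Agent.ProjPtsLib.exists_form (T.erase v.1) T.card
        (Finset.card_erase_le) v.1 (h0 _ v.2)
        (fun w hw => hdist _ v.2 _ (Finset.mem_of_mem_erase hw) (Finset.ne_of_mem_erase hw).symm)
      let L₀ := Groth.Agent.ProjPtsLib.lin φ₀
      have hG : (F * F * L₀ ^ (m + n)).IsHomogeneous (m + n + s) := by
        have := (hF.mul hF).mul ((Groth.Agent.ProjPtsLib.lin_isHomogeneous φ₀).pow (m + n))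
        rwa [show T.card + T.card + 1 * (m + n) = m + n + s by omega] at this
      have hGw : ∀ w : T, w ≠ v → eval w.1 (F * F * L₀ ^ (m + n)) = 0 ∧
          eval w.1 (dirD (dir w) (F * F * L₀ ^ (m + n))) = 0 := by
        intro w hw
        have h1 : eval w.1 F = 0 := hFw _ (Finset.mem_erase.2 ⟨fun e => hw (Subtype.ext e), w.2⟩)
        refine ⟨by rw [map_mul, map_mul, h1]; ring, ?_⟩
        rw [eval_dirD_mul, eval_dirD_sq _ _ _ h1, map_mul, h1]
        ring
      have hGv : eval v.1 (F * F * L₀ ^ (m + n)) ≠ 0 := by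
        rw [map_mul, map_mul, map_pow, Groth.Agent.ProjPtsLib.eval_lin]
        exact mul_ne_zero (mul_ne_zero hFv hFv) (pow_ne_zero _ hφ₀)
      refine ⟨⟨(eval v.1 (F * F * L₀ ^ (m + n)) * φ₁ (dir v.1))⁻¹ •
          ⟨_, hG.mul (Groth.Agent.ProjPtsLib.lin_isHomogeneous φ₁)⟩, ?_⟩,
        ⟨(eval v.1 (F * F * L₀ ^ (m + n)) * φ₀ v.1)⁻¹ • ⟨_, hG.mul (Groth.Agent.ProjPtsLib.lin_isHomogeneous φ₀)⟩,
          (eval v.1 (F * F * L₀ ^ (m + n)) * φ₀ v.1)⁻¹ *
            eval v.1 (dirD (dir v) (F * F * L₀ ^ (m + n) * L₀)), ?_⟩⟩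
      · rw [map_smul]
        refine Prod.ext (funext fun w => ?_) (funext fun w => ?_)
        · simp only [Prod.smul_fst, Pi.smul_apply, hev1, map_mul (eval w.1), Groth.Agent.ProjPtsLib.eval_lin]
          rcases eq_or_ne w v with rfl | hw
          · simp [hφ₁' _ (Submodule.mem_span_singleton_self _)]
          · rw [← map_mul, ← map_mul, (hGw w hw).1]; simp
        · simp only [Prod.smul_snd, Pi.smul_apply, hev2]
          rcases eq_or_ne w v with rfl | hw
          · rw [eval_dirD_mul, eval_dirD_lin, Groth.Agent.ProjPtsLib.eval_lin,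
              hφ₁' _ (Submodule.mem_span_singleton_self _), zero_mul, add_zero, smul_eq_mul,
              inv_mul_cancel₀ (mul_ne_zero hGv hφ₁), Pi.single_eq_same]
          · rw [eval_dirD_mul, (hGw w hw).1, (hGw w hw).2, Pi.single_eq_of_ne hw]; simp
      · rw [map_smul]
        refine Prod.ext (funext fun w => ?_) (funext fun w => ?_)
        · simp only [Prod.smul_fst, Pi.smul_apply, hev1]
          rcases eq_or_ne w v with rfl | hw
          · rw [map_mul _ (F * F * L₀ ^ (m + n)) _, Groth.Agent.ProjPtsLib.eval_lin, smul_eq_mul, inv_mul_cancel₀ (mul_ne_zero hGv hφ₀), Pi.single_eq_same]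
          · rw [map_mul _ (F * F * L₀ ^ (m + n)) _, (hGw w hw).1, Pi.single_eq_of_ne hw]; simp
        · simp only [Prod.smul_snd, Pi.smul_apply, hev2]
          rcases eq_or_ne w v with rfl | hw
          · rw [smul_eq_mul, Pi.single_eq_same]
          · rw [eval_dirD_mul, (hGw w hw).1, (hGw w hw).2, Pi.single_eq_of_ne hw]; simp
    choose p hp using fun v => (key v).1
    choose p' b hp' using fun v => (key v).2
    intro y
    refine ⟨∑ v, y.1 v • p' v + ∑ v, (y.2 v - y.1 v * b v) • p v, ?_⟩
    rw [map_add, map_sum, map_sum]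
    simp_rw [map_smul, hp, hp']
    refine Prod.ext (funext fun w => ?_) (funext fun w => ?_)
    · simp [Prod.fst_sum, Pi.single_apply]
    · simp [Prod.snd_sum, Pi.single_apply]
  let φ : H (n + s + 1) × H (m + s + 1) →ₗ[k] H (m + n + s + 1) :=
    LinearMap.coprod
      (((LinearMap.mulRight k q).comp (Submodule.subtype _)).codRestrict _ fun a => by
        have := (a.2 : a.1.IsHomogeneous (n + s + 1)).mul hq
        rwa [show n + s + 1 + m = m + n + s + 1 by ring] at this)
      (((LinearMap.mulRight k c).comp (Submodule.subtype _)).codRestrict _ fun a => by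
        have := (a.2 : a.1.IsHomogeneous (m + s + 1)).mul hc
        rwa [show m + s + 1 + n = m + n + s + 1 by ring] at this)
  have hφ : ∀ p, (φ p).1 = p.1.1 * q + p.2.1 * c := fun p => rfl
  let κ : H (s + 1) →ₗ[k] H (n + s + 1) × H (m + s + 1) :=
    LinearMap.prod
      (((LinearMap.mulRight k c).comp (Submodule.subtype _)).codRestrict _ fun a => by
        have := (a.2 : a.1.IsHomogeneous (s + 1)).mul hc
        rwa [show s + 1 + n = n + s + 1 by ring] at this)
      (-(((LinearMap.mulRight k q).comp (Submodule.subtype _)).codRestrict _ fun a => by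
        have := (a.2 : a.1.IsHomogeneous (s + 1)).mul hq
        rwa [show s + 1 + m = m + s + 1 by ring] at this))
  have hκ : ∀ a, (κ a).1.1 = a.1 * c ∧ (κ a).2.1 = -(a.1 * q) := fun a => ⟨rfl, rfl⟩
  have hker : LinearMap.ker φ ≤ LinearMap.range κ := by
    rintro ⟨⟨A, hA⟩, ⟨B, hB⟩⟩ hAB
    have e : A * q + B * c = 0 := (hφ (⟨A, hA⟩, ⟨B, hB⟩)).symm.trans (congrArg Subtype.val (LinearMap.mem_ker.1 hAB))
    obtain ⟨h, rfl⟩ : c ∣ A := hqc.symm.dvd_of_dvd_mul_right (show c ∣ A * q from ⟨-B, by linear_combination e⟩)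
    have hB' : B = -(h * q) := mul_right_cancel₀ hc0 (by linear_combination e)
    have hh : h.IsHomogeneous (s + 1) := by
      rcases eq_or_ne h 0 with rfl | hh0
      · exact isHomogeneous_zero _ _ _
      obtain ⟨e', he'⟩ := HomogFactorLib.exists_isHomogeneous_of_mul hh0 hc0
        (show (h * c).IsHomogeneous (n + s + 1) by rw [mul_comm]; exact hA)
      have h3 : n + e' = n + s + 1 := (hc.mul he').inj_right hA (mul_ne_zero hc0 hh0)
      rwa [show s + 1 = e' by omega]
    exact ⟨⟨h, hh⟩, Prod.ext (Subtype.ext (((hκ _).1).trans (mul_comm _ _))) (Subtype.ext (((hκ _).2).trans hB'.symm))⟩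
  have hle : LinearMap.range φ ≤ LinearMap.ker ev := by
    rintro _ ⟨p, rfl⟩
    refine LinearMap.mem_ker.2 (Prod.ext (funext fun v => ?_) (funext fun v => ?_))
    · rw [hev1, hφ, map_add, map_mul, map_mul, hTq _ v.2, hTc _ v.2]
      simp
    · rw [hev2, hφ, map_add, map_add, eval_dirD_mul, eval_dirD_mul, hTq _ v.2, hTc _ v.2, hTq' _ v.2, hTc' _ v.2]
      simp
  have e1 := LinearMap.finrank_range_add_finrank_ker φ
  have e2 := LinearMap.finrank_range_add_finrank_ker ev
  rw [LinearMap.range_eq_top.2 hsurj, finrank_top, Module.finrank_prod, Module.finrank_fintype_fun_eq_card,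
    Fintype.card_coe] at e2
  rw [Module.finrank_prod] at e1
  have e3 := Submodule.finrank_mono hker
  have e4 := LinearMap.finrank_range_le κ
  have e5 := Submodule.finrank_mono hle
  have d1 := two_finrank (k := k) (n + s + 1)
  have d2 := two_finrank (k := k) (m + s + 1)
  have d3 := two_finrank (k := k) (s + 1)
  have d4 := two_finrank (k := k) (m + n + s + 1)
  nlinarith

/-- An irreducible polynomial over an algebraically closed field has a nonzero partial derivative. -/
theorem exists_pderiv_ne_zero [IsAlgClosed k] {σ : Type} {h : MvPolynomial σ k} (hh : Irreducible h) :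
    ∃ i, pderiv i h ≠ 0 := by
  classical
  by_contra hcon
  push Not at hcon
  have key : ∀ d ∈ h.support, ∀ i, (d i : k) = 0 := by
    intro d hd i
    rcases Nat.eq_zero_or_pos (d i) with h0 | h0
    · simp [h0]
    have hd' : d - Finsupp.single i 1 + Finsupp.single i 1 = d :=
      Finsupp.ext fun j => by
        rcases eq_or_ne j i with rfl | hj
        · simp; omega
        · simp [hj]
    have := congrArg (coeff (d - Finsupp.single i 1)) (hcon i)
    rw [coeff_pderiv, hd', coeff_zero, mul_eq_zero] at this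
    have h2 := this.resolve_left (mem_support_iff.1 hd)
    have h3 : (d - Finsupp.single i 1 : σ →₀ ℕ) i = d i - 1 := by simp
    rw [h3] at h2
    rw [← Nat.cast_add_one, Nat.sub_add_cancel h0] at h2
    exact h2
  obtain ⟨p, hp⟩ := CharP.exists k
  rcases CharP.char_is_prime_or_zero k p with hp' | hp'
  · haveI : Fact p.Prime := ⟨hp'⟩
    have hdvd : ∀ d ∈ h.support, ∀ i, p ∣ d i := fun d hd i => (CharP.cast_eq_zero_iff k p _).1 (key d hd i)
    choose rt hrt using fun c : k => IsAlgClosed.exists_pow_nat_eq c hp'.pos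
    haveI : ExpChar (MvPolynomial σ k) p := ExpChar.prime hp'
    have he : h = (∑ d ∈ h.support, monomial (d.mapRange (· / p) (Nat.zero_div p)) (rt (h.coeff d))) ^ p := by
      rw [sum_pow_char]
      conv_lhs => rw [as_sum h]
      refine Finset.sum_congr rfl fun d hd => ?_
      rw [monomial_pow, hrt, show p • d.mapRange (· / p) (Nat.zero_div p) = d from
        Finsupp.ext fun i => by simp [Nat.mul_div_cancel' (hdvd d hd i)]]
    rw [he, ← Nat.succ_pred hp'.pos.ne', pow_succ] at hh
    have hpred : p.pred ≠ 0 := by have := hp'.two_le; simp only [Nat.pred_eq_sub_one]; omega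
    rcases hh.isUnit_or_isUnit rfl with hu | hu
    · exact hh.not_isUnit (hu.mul ((isUnit_pow_iff hpred).1 hu))
    · exact hh.not_isUnit ((hu.pow _).mul hu)
  · subst hp'
    haveI := CharP.charP_to_charZero k
    refine hh.not_isUnit ?_
    have he : h = C (h.coeff 0) := by
      ext d
      rw [coeff_C]
      rcases eq_or_ne 0 d with rfl | hd
      · simp
      rw [if_neg hd]
      by_contra hc
      exact hd (Finsupp.ext fun i => by have := key d (mem_support_iff.2 hc) i; simpa using this).symm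
    rw [he]
    exact (isUnit_iff_ne_zero.2 fun h0 => hh.ne_zero (by rw [he, h0, map_zero])).map C

/-- A squarefree form is coprime to a general polar. -/
theorem exists_polar [IsAlgClosed k] {d : ℕ} {f : MvPolynomial (Fin 3) k} (hf : f.IsHomogeneous d) (hf0 : f ≠ 0)
    (hsq : Squarefree f) (hd : 0 < d) : ∃ v : Fin 3 → k, dirD v f ≠ 0 ∧ IsRelPrime f (dirD v f) := by
  classical
  let Φ : (Fin 3 → k) →ₗ[k] MvPolynomial (Fin 3) k :=
    { toFun := fun v => dirD v f
      map_add' := fun v w => by simp [dirD_apply, add_smul, Finset.sum_add_distrib]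
      map_smul' := fun r v => by simp [dirD_apply, Finset.smul_sum, smul_smul] }
  obtain ⟨l, hl, hlf⟩ := UniqueFactorizationMonoid.exists_prime_factors f hf0
  let B : l.toFinset → Submodule k (Fin 3 → k) := fun h =>
    ((Ideal.span {(h : MvPolynomial (Fin 3) k)}).restrictScalars k).comap Φ
  have hB : ∀ h, B h ≠ ⊤ := by
    rintro ⟨h, hh⟩ htop
    have hhl : h ∈ l := Multiset.mem_toFinset.1 hh
    have hhp : Prime h := hl h hhl
    obtain ⟨i, hi⟩ := exists_pderiv_ne_zero hhp.irreducible
    have hdvd : h ∣ f := (Multiset.dvd_prod hhl).trans hlf.dvd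
    obtain ⟨g, hg⟩ := hdvd
    have h1 : Pi.single i (1 : k) ∈ B ⟨h, hh⟩ := htop ▸ Submodule.mem_top
    have h2 : h ∣ pderiv i f := by
      have := Ideal.mem_span_singleton.1 h1
      simpa [Φ, dirD_apply, Pi.single_apply] using this
    rw [hg, pderiv_mul] at h2
    have h3 : h ∣ pderiv i h * g := (dvd_add_left (dvd_mul_right h _)).1 h2
    rcases hhp.dvd_or_dvd h3 with h4 | h4
    · obtain ⟨e, he⟩ : ∃ e, h.IsHomogeneous e := by
        refine HomogFactorLib.exists_isHomogeneous_of_mul (f := h) (g := g) (n := d) hhp.ne_zero (fun g0 => hf0 (by rw [hg, g0, mul_zero])) ?_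
        exact hg ▸ hf
      obtain ⟨r, hr⟩ := h4
      have hr0 : r ≠ 0 := fun r0 => hi (by rw [hr, r0, mul_zero])
      obtain ⟨e', he'⟩ := HomogFactorLib.exists_isHomogeneous_of_mul hr0 hhp.ne_zero
        (show (r * h).IsHomogeneous (e - 1) by rw [mul_comm, ← hr]; exact he.pderiv)
      have h5 : e + e' = e - 1 := (he.mul he').inj_right (hr ▸ he.pderiv) (mul_ne_zero hhp.ne_zero hr0)
      have he0 : e = 0 := by omega
      subst he0
      have hC : h = C (h.coeff 0) := totalDegree_eq_zero_iff_eq_C.1 (Nat.le_zero.1 he.totalDegree_le)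
      exact hi (by rw [hC, pderiv_C])
    · obtain ⟨r, hr⟩ := h4
      exact hhp.not_unit (hsq h ⟨r, by rw [hg, hr, mul_assoc]⟩)
  obtain ⟨v, hv⟩ : ∃ v, ∀ h, v ∉ B h := by
    by_contra hcon
    push Not at hcon
    obtain ⟨h, hh⟩ := Subspace.exists_eq_top_of_iUnion_eq_univ (p := B) (Set.eq_univ_of_forall fun v => by
      obtain ⟨h, hh⟩ := hcon v; exact Set.mem_iUnion.2 ⟨h, hh⟩)
    exact hB h hh
  have hnd : ∀ h ∈ l, ¬ h ∣ dirD v f := fun h hh hdd =>
    hv ⟨h, Multiset.mem_toFinset.2 hh⟩ (Ideal.mem_span_singleton.2 hdd)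
  have hnu : ¬ IsUnit f := fun hu => by
    obtain ⟨r, -, hr⟩ := MvPolynomial.isUnit_iff_eq_C_of_isReduced.1 hu
    have := hf.inj_right (hr ▸ isHomogeneous_C _ r) hf0
    omega
  refine ⟨v, fun h0 => ?_, fun a ha ha' => ?_⟩
  · rcases Multiset.empty_or_exists_mem l with rfl | ⟨h, hh⟩
    · rw [Multiset.prod_zero] at hlf
      exact hnu (hlf.isUnit isUnit_one)
    · exact hnd h hh (h0 ▸ dvd_zero h)
  · by_contra hu
    have ha0 : a ≠ 0 := fun h => hf0 (zero_dvd_iff.1 (h ▸ ha))
    obtain ⟨p, hp, hpa⟩ := WfDvdMonoid.exists_irreducible_factor hu ha0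
    have hpf : p ∣ l.prod := ((hpa.trans ha).trans hlf.symm.dvd)
    obtain ⟨h, hh, hph⟩ := (UniqueFactorizationMonoid.irreducible_iff_prime.1 hp).exists_mem_multiset_dvd hpf
    exact hnd h hh (((hp.associated_of_dvd (hl h hh).irreducible hph).symm.dvd.trans hpa).trans ha')

theorem exists_singular_le [IsAlgClosed k] (f : MvPolynomial (Fin 3) k) (hf : f.IsHomogeneous 4) (hred : Squarefree f) :
    ∃ s : Finset (Projectivization k (Fin 3 → k)), s.card ≤ 6 ∧ ∀ p : Projectivization k (Fin 3 → k),
      eval p.rep f = 0 → (∀ i : Fin 3, eval p.rep (pderiv i f) = 0) → p ∈ s := by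
  classical
  have hf0 : f ≠ 0 := hred.ne_zero
  obtain ⟨v, hc0, hrel⟩ := exists_polar hf hf0 hred (by norm_num)
  have hc : (dirD v f).IsHomogeneous 3 := by
    rw [dirD_apply]
    exact IsHomogeneous.sum _ _ _ fun i _ => by rw [smul_eq_C_mul]; exact hf.pderiv.C_mul _
  have bound : ∀ s : Finset (Projectivization k (Fin 3 → k)),
      (∀ p ∈ s, eval p.rep f = 0 ∧ ∀ i, eval p.rep (pderiv i f) = 0) → s.card ≤ 6 := by
    intro s hs
    let g : MvPolynomial (Fin 3) k := dirD v f
    have hdir : ∀ P : Fin 3 → k, ∃ w, (P ≠ 0 → w ∉ Submodule.span k {P}) ∧ eval P (dirD w g) = 0 := by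
      intro P
      rcases eq_or_ne P 0 with hP | hP
      · exact ⟨0, fun h => absurd hP h, by simp [dirD_apply]⟩
      let L : (Fin 3 → k) →ₗ[k] k := ∑ i, eval P (pderiv i g) • LinearMap.proj i
      by_contra hcon
      push Not at hcon
      have hle : LinearMap.ker L ≤ Submodule.span k {P} := fun w hw => by
        by_contra hwP
        refine hcon w (fun _ => hwP) ?_
        rw [← LinearMap.mem_ker.1 hw]
        simp [L, dirD_apply, smul_eval, mul_comm]
      have h1 := Submodule.finrank_mono hle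
      rw [finrank_span_singleton hP] at h1
      have h2 := LinearMap.finrank_range_add_finrank_ker L
      have h3 := Submodule.finrank_le (LinearMap.range L)
      rw [Module.finrank_self] at h3
      rw [Module.finrank_fin_fun] at h2
      omega
    choose dir hdir1 hdir2 using hdir
    let T := s.image Projectivization.rep
    have hinj : Function.Injective (Projectivization.rep : Projectivization k (Fin 3 → k) → _) :=
      Function.LeftInverse.injective (g := fun w => if hw : w ≠ 0 then Projectivization.mk k w hw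
          else Projectivization.mk k (Pi.single 0 1) (by simp))
        (fun p => by simp only [dif_pos p.rep_nonzero, Projectivization.mk_rep])
    have hT : ∀ w ∈ T, ∃ p ∈ s, p.rep = w := fun w hw => Finset.mem_image.1 hw
    have h1 : ∀ w ∈ T, w ≠ 0 := fun w hw => by obtain ⟨p, -, rfl⟩ := hT w hw; exact p.rep_nonzero
    have h2 : ∀ w ∈ T, eval w f = 0 ∧ ∀ u : Fin 3 → k, eval w (dirD u f) = 0 := fun w hw => by
      obtain ⟨p, hp, rfl⟩ := hT w hw
      exact ⟨(hs p hp).1, fun u => by simp [dirD_apply, smul_eval, (hs p hp).2]⟩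
    have := two_mul_card_le hf hc hf0 hc0 hrel T dir h1
      (fun w hw w' hw' hne r e => by
        obtain ⟨p, hp, rfl⟩ := hT w hw
        obtain ⟨p', hp', rfl⟩ := hT w' hw'
        refine hne (congrArg Projectivization.rep ?_)
        rw [← Projectivization.mk_rep p, ← Projectivization.mk_rep p', Projectivization.mk_eq_mk_iff']
        exact ⟨r, e.symm⟩)
      (fun w hw => hdir1 w (h1 w hw)) (fun w hw => (h2 w hw).1) (fun w hw => (h2 w hw).2 v)
      (fun w hw => (h2 w hw).2 _) (fun w hw => hdir2 w)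
    rw [Finset.card_image_of_injective _ hinj] at this
    omega
  let S : Set (Projectivization k (Fin 3 → k)) := {p | eval p.rep f = 0 ∧ ∀ i, eval p.rep (pderiv i f) = 0}
  have hfin : S.Finite := by
    by_contra hinf
    obtain ⟨t, ht, htc⟩ := Set.Infinite.exists_subset_card_eq hinf 7
    have := bound t fun p hp => ht hp
    omega
  exact ⟨hfin.toFinset, bound _ fun p hp => hfin.mem_toFinset.1 hp, fun p h1 h2 => hfin.mem_toFinset.2 ⟨h1, h2⟩⟩

end PlaneBezoutLib
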