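import Groth.Agent.PlaneBezoutLib.Basic
import Mathlib.Algebra.MvPolynomial.PDeriv
import Mathlib.Algebra.MvPolynomial.Funext
import Mathlib.LinearAlgebra.Matrix.NonsingularInverse
import Mathlib.LinearAlgebra.Basis.VectorSpace
import Mathlib.FieldTheory.IsAlgClosed.Basic
import Mathlib.Data.Set.Card

/-!
# Lines through a double point of a cubic surface
-/

set_option autoImplicit false
set_option maxHeartbeats 1000000

universe u

open MvPolynomial

noncomputable section

namespace PlaneBezoutLib

variable {K : Type u} [Field K] {N : ℕ}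

/-- The substitution `x ↦ M x`. -/
def substM (M : Matrix (Fin N) (Fin N) K) : MvPolynomial (Fin N) K →ₐ[K] MvPolynomial (Fin N) K :=
  aeval fun i => ∑ j, C (M i j) * X j

theorem eval_substM (M : Matrix (Fin N) (Fin N) K) (p : MvPolynomial (Fin N) K) (v : Fin N → K) :
    eval v (substM M p) = eval (M.mulVec v) p := by
  induction p using MvPolynomial.induction_on with
  | C r => simp [substM]
  | add p q hp hq => simp [hp, hq]
  | mul_X p i hp =>
    rw [map_mul, map_mul, map_mul, hp]
    congr 1
    simp [substM, Matrix.mulVec, dotProduct]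

theorem substM_comp (A B : Matrix (Fin N) (Fin N) K) (p : MvPolynomial (Fin N) K) :
    substM B (substM A p) = substM (A * B) p := by
  refine AlgHom.congr_fun (φ₁ := (substM B).comp (substM A)) (φ₂ := substM (A * B)) (algHom_ext fun i => ?_) p
  simp only [AlgHom.comp_apply, substM, aeval_X, map_sum, map_mul, aeval_C, Matrix.mul_apply, algebraMap_eq,
    Finset.sum_mul, Finset.mul_sum, mul_assoc]
  rw [Finset.sum_comm]

theorem substM_one (p : MvPolynomial (Fin N) K) : substM 1 p = p := by
  refine AlgHom.congr_fun (φ₁ := substM (1 : Matrix (Fin N) (Fin N) K)) (φ₂ := AlgHom.id K _) (algHom_ext fun i => ?_) p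
  simp [substM, Matrix.one_apply]

theorem substM_homogeneous (M : Matrix (Fin N) (Fin N) K) {p : MvPolynomial (Fin N) K} {d : ℕ}
    (hp : p.IsHomogeneous d) : (substM M p).IsHomogeneous d := by
  have h := hp.aeval (fun i => ∑ j, C (M i j) * X j)
    (fun i => IsHomogeneous.sum _ _ 1 fun j _ => (isHomogeneous_X K j).C_mul _)
  rw [one_mul] at h
  exact h

theorem pderiv_substM (M : Matrix (Fin N) (Fin N) K) (j : Fin N) (p : MvPolynomial (Fin N) K) :
    pderiv j (substM M p) = ∑ i, C (M i j) * substM M (pderiv i p) := by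
  induction p using MvPolynomial.induction_on with
  | C r => simp [substM]
  | add p q hp hq => simp only [map_add, hp, hq, mul_add, Finset.sum_add_distrib]
  | mul_X p l hp =>
    rw [map_mul, pderiv_mul, hp]
    have e : pderiv j (substM M (X l)) = C (M l j) := by
      simp [substM, map_sum, pderiv_mul, pderiv_X, Pi.single_apply]
    rw [e]
    simp only [pderiv_mul, map_add, map_mul, mul_add, Finset.sum_add_distrib, Finset.sum_mul]
    congr 1
    · exact Finset.sum_congr rfl fun i _ => by ring
    · simp [pderiv_X, Pi.single_apply, apply_ite (substM M), mul_comm]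

/-- An invertible matrix with prescribed first column. -/
theorem exists_matrix (a : Fin (N + 1) → K) (ha : a ≠ 0) : ∃ M M' : Matrix (Fin (N + 1)) (Fin (N + 1)) K,
    M * M' = 1 ∧ M' * M = 1 ∧ M.mulVec (Pi.single 0 1) = a := by
  classical
  obtain ⟨i, hi⟩ := Function.ne_iff.1 ha
  let P : Matrix (Fin (N + 1)) (Fin (N + 1)) K := Matrix.of fun r c =>
    if c = 0 then a r else if r = Equiv.swap 0 i c then 1 else 0
  have hinj : Function.Injective P.mulVec := by
    intro v w h
    rw [← sub_eq_zero, ← Matrix.mulVec_sub] at h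
    rw [← sub_eq_zero]
    generalize v - w = z at h ⊢
    have hz : ∀ r, a r * z 0 + (if r = i then 0 else z (Equiv.swap 0 i r)) = 0 := fun r => by
      refine Eq.trans ?_ (congrFun h r : P.mulVec z r = 0)
      rw [Matrix.mulVec, dotProduct, ← Finset.add_sum_erase _ _ (Finset.mem_univ (0 : Fin (N + 1)))]
      congr 1
      · rw [Finset.sum_congr rfl (g := fun c => if Equiv.swap 0 i r = c then z c else 0) (fun c hc => by
            simp only [P, Matrix.of_apply, if_neg (Finset.ne_of_mem_erase hc), ite_mul, one_mul, zero_mul]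
            by_cases hrc : r = Equiv.swap 0 i c
            · rw [if_pos hrc, if_pos (by rw [hrc, Equiv.swap_apply_self])]
            · rw [if_neg hrc, if_neg (fun e => hrc (by rw [← e, Equiv.swap_apply_self]))]),
          Finset.sum_ite_eq]
        by_cases hri : r = i
        · simp [hri]
        · rw [if_neg hri, if_pos (Finset.mem_erase.2 ⟨fun e => hri ?_, Finset.mem_univ _⟩)]
          simpa using congrArg (Equiv.swap 0 i) e
    have h0 : z 0 = 0 := by
      have := hz i
      rw [if_pos rfl, add_zero, mul_eq_zero] at this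
      exact this.resolve_left hi
    funext c
    rcases eq_or_ne c 0 with rfl | hc
    · exact h0
    have := hz (Equiv.swap 0 i c)
    rwa [h0, mul_zero, zero_add, Equiv.swap_apply_self, if_neg] at this
    intro e
    exact hc (by simpa using congrArg (Equiv.swap 0 i) e)
  have hu : IsUnit P := Matrix.mulVec_injective_iff_isUnit.1 hinj
  refine ⟨P, ↑(hu.unit⁻¹), hu.mul_val_inv, hu.val_inv_mul, funext fun r => ?_⟩
  simp [P, Matrix.mulVec, dotProduct, Pi.single_apply]

/-- Lift from the last `N` variables. -/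
def lift' : MvPolynomial (Fin N) K →ₐ[K] MvPolynomial (Fin (N + 1)) K := rename Fin.succ

theorem finSuccEquiv_lift' (p : MvPolynomial (Fin N) K) : finSuccEquiv K N (lift' p) = Polynomial.C p := by
  refine AlgHom.congr_fun (φ₁ := (finSuccEquiv K N).toAlgHom.comp lift')
    (φ₂ := IsScalarTower.toAlgHom K (MvPolynomial (Fin N) K) (Polynomial (MvPolynomial (Fin N) K)))
    (algHom_ext fun i => ?_) p
  simp [lift', finSuccEquiv_X_succ]

theorem sum_single_smul (a : Fin N → K) : ∑ i, a i • Pi.single (M := fun _ => K) i 1 = a := (pi_eq_sum_univ' a).symm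

/-- A cubic which is singular at `(1 : 0 : 0 : 0)`. -/
theorem exists_decomp {G : MvPolynomial (Fin 4) K} (hG : G.IsHomogeneous 3)
    (h0 : eval (Pi.single 0 1) G = 0) (h1 : ∀ i, eval (Pi.single 0 1) (pderiv i G) = 0) :
    ∃ q c : MvPolynomial (Fin 3) K, q.IsHomogeneous 2 ∧ c.IsHomogeneous 3 ∧ G = X 0 * lift' q + lift' c := by
  let P := finSuccEquiv K 3 G
  have hP : ∀ e, (P.coeff e).IsHomogeneous (3 - e) ∨ 3 < e := fun e => by
    rcases le_or_gt e 3 with he | he
    · exact Or.inl (hG.finSuccEquiv_coeff_isHomogeneous e (3 - e) (by omega))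
    · exact Or.inr he
  have hbig : ∀ e, 3 < e → P.coeff e = 0 := fun e he => by
    ext d
    rw [finSuccEquiv_coeff_coeff, coeff_zero]
    refine hG.coeff_eq_zero ?_
    rw [Finsupp.degree_eq_sum, Fin.sum_univ_succ, Finsupp.cons_zero]
    omega
  have hev : ∀ p : MvPolynomial (Fin 4) K, eval (Pi.single 0 1) p =
      (Polynomial.map (eval (0 : Fin 3 → K)) (finSuccEquiv K 3 p)).eval 1 := fun p => by
    rw [show (Pi.single (0 : Fin 4) (1 : K) : Fin 4 → K) = Fin.cons 1 0 from
      funext fun i => by induction i using Fin.cases <;> simp, eval_eq_eval_mv_eval']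
  have hsum : ∀ p : MvPolynomial (Fin 4) K, ∀ d, p.IsHomogeneous d → eval (Pi.single 0 1) p = p.coeff (Finsupp.single 0 d) := by
    intro p d hp
    conv_lhs => rw [as_sum p, map_sum]
    rw [Finset.sum_eq_single (Finsupp.single 0 d)]
    · simp [eval_monomial]
    · intro s hs hne
      rw [eval_monomial, mul_eq_zero]
      refine Or.inr ?_
      obtain ⟨i, hi, hi0⟩ : ∃ i, i ≠ 0 ∧ s i ≠ 0 := by
        by_contra hcon
        push Not at hcon
        refine hne (Finsupp.ext fun i => ?_)
        have hd := hp.degree_eq_sum_deg_support hs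
        rw [show (∑ j ∈ s.support, s j) = ∑ j, s j from
          (Finset.sum_subset (Finset.subset_univ _) (fun j _ hj => Finsupp.notMem_support_iff.1 hj)), Finset.sum_eq_single 0
          (fun j _ hj => hcon j hj) (by simp)] at hd
        rcases eq_or_ne i 0 with rfl | hi
        · simp [← hd]
        · simp [hcon i hi, hi.symm]
      rw [Finsupp.prod]
      exact Finset.prod_eq_zero (Finsupp.mem_support_iff.2 hi0) (by simp [Pi.single_eq_of_ne hi, hi0])
    · intro hs
      rw [notMem_support_iff.1 hs]
      simp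
  have hc3 : G.coeff (Finsupp.single 0 3) = 0 := by rw [← hsum G 3 hG, h0]
  have hc2 : ∀ i : Fin 4, i ≠ 0 → G.coeff (Finsupp.single 0 2 + Finsupp.single i 1) = 0 := by
    intro i hi
    have := h1 i
    rw [hsum _ 2 hG.pderiv, coeff_pderiv] at this
    simpa [Finsupp.single_eq_of_ne hi] using this
  have hP3 : P.coeff 3 = 0 := by
    ext d
    rw [finSuccEquiv_coeff_coeff, coeff_zero]
    rcases eq_or_ne d 0 with rfl | hd
    · rw [show Finsupp.cons 3 (0 : Fin 3 →₀ ℕ) = Finsupp.single (0 : Fin 4) 3 from Finsupp.ext fun j => by induction j using Fin.cases <;> simp [Fin.succ_ne_zero]]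
      exact hc3
    · refine hG.coeff_eq_zero ?_
      rw [Finsupp.degree_eq_sum, Fin.sum_univ_succ, Finsupp.cons_zero]
      simp only [Finsupp.cons_succ]
      obtain ⟨i, hi⟩ := Finsupp.ne_iff.1 hd
      have := Finset.single_le_sum (f := fun j => d j) (fun _ _ => Nat.zero_le _) (Finset.mem_univ i)
      simp at hi this
      omega
  have hP2 : P.coeff 2 = 0 := by
    ext d
    rw [finSuccEquiv_coeff_coeff, coeff_zero]
    by_cases hd : ∑ j, d j = 1
    · obtain ⟨i, hi⟩ : ∃ i, d = Finsupp.single i 1 := by
        obtain ⟨i, hi⟩ : ∃ i, d i ≠ 0 := by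
          by_contra h
          push Not at h
          simp [h] at hd
        refine ⟨i, Finsupp.ext fun j => ?_⟩
        have h2 := Finset.single_le_sum (f := fun l => d l) (fun _ _ => Nat.zero_le _) (Finset.mem_univ i)
        rcases eq_or_ne j i with rfl | hj
        · simp at h2 ⊢; omega
        · have h3 : ∑ l ∈ ({i, j} : Finset (Fin 3)), d l ≤ ∑ l, d l := Finset.sum_le_sum_of_subset (Finset.subset_univ _)
          rw [Finset.sum_pair hj.symm] at h3
          simp [hj.symm]; omega
      subst hi
      rw [show Finsupp.cons 2 (Finsupp.single i 1) = Finsupp.single (0 : Fin 4) 2 + Finsupp.single i.succ 1 from ?_]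
      · exact hc2 _ (Fin.succ_ne_zero i)
      · ext j
        induction j using Fin.cases <;> simp [Finsupp.single_apply, (Fin.succ_ne_zero _).symm, Fin.succ_ne_zero]
    · refine hG.coeff_eq_zero ?_
      rw [Finsupp.degree_eq_sum, Fin.sum_univ_succ, Finsupp.cons_zero]
      simp only [Finsupp.cons_succ]
      omega
  refine ⟨P.coeff 1, P.coeff 0, (hP 1).resolve_right (by omega), (hP 0).resolve_right (by omega), ?_⟩
  apply (finSuccEquiv K 3).injective
  rw [map_add, map_mul, finSuccEquiv_X_zero, finSuccEquiv_lift', finSuccEquiv_lift']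
  refine Polynomial.ext fun e => ?_
  match e with
  | 0 => simp [P]
  | 1 => simp [P]
  | 2 => simp [P]; exact hP2
  | 3 => simp [P]; exact hP3
  | e + 4 => simp [P]; exact hbig _ (by omega)

theorem lines_le_six [IsAlgClosed K] (F : MvPolynomial (Fin 4) K) (hF : F.IsHomogeneous 3) (hirr : Irreducible F)
    (hcone : ¬ ∃ v : Fin 4 → K, v ≠ 0 ∧ ∑ i : Fin 4, v i • MvPolynomial.pderiv i F = 0) (a : Fin 4 → K) (ha : a ≠ 0)
    (hFa : MvPolynomial.eval a F = 0) (hsing : ∀ i : Fin 4, MvPolynomial.eval a (MvPolynomial.pderiv i F) = 0) :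
    {U : Submodule K (Fin 4 → K) | a ∈ U ∧ Module.finrank K ↥U = 2 ∧ ∀ u ∈ U, MvPolynomial.eval u F = 0}.encard ≤ 6 := by
  classical
  obtain ⟨M, M', hMM', hM'M, hMa⟩ := exists_matrix a ha
  obtain ⟨G, hGdef⟩ : ∃ G, G = substM M F := ⟨_, rfl⟩
  have hG : G.IsHomogeneous 3 := hGdef ▸ substM_homogeneous M hF
  have hGirr : Irreducible G := by
    let e : MvPolynomial (Fin 4) K ≃ₐ[K] MvPolynomial (Fin 4) K := AlgEquiv.ofAlgHom (substM M) (substM M')
      (AlgHom.ext fun p => by simp [substM_comp, hM'M, substM_one]) (AlgHom.ext fun p => by simp [substM_comp, hMM', substM_one])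
    exact hGdef ▸ (MulEquiv.irreducible_iff e).2 hirr
  have hd : ∀ j, eval (Pi.single 0 1) (pderiv j G) = 0 := fun j => by
    simp [hGdef, pderiv_substM, eval_substM, hMa, hsing]
  obtain ⟨q, c, hq, hc, hqc⟩ := exists_decomp hG (by rw [hGdef, eval_substM, hMa, hFa]) hd
  have hq0 : q ≠ 0 := by
    rintro rfl
    refine hcone ⟨a, ha, ?_⟩
    have h : pderiv 0 G = 0 := by
      rw [hqc, map_zero, mul_zero, zero_add]
      exact pderiv_eq_zero_of_notMem_vars (fun hmem => by
        obtain ⟨i, -, hi⟩ := Finset.mem_image.1 (vars_rename _ _ hmem)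
        exact Fin.succ_ne_zero i hi)
    rw [hGdef, pderiv_substM] at h
    have hcol : ∀ i, M i 0 = a i := fun i => by rw [← hMa]; simp [Matrix.mulVec, dotProduct, Pi.single_apply]
    have := congrArg (substM M') h
    rw [map_sum, map_zero] at this
    refine Eq.trans ?_ this
    refine Finset.sum_congr rfl fun i _ => ?_
    rw [map_mul, substM_comp, hMM', substM_one, hcol, smul_eq_C_mul,
      show substM M' (C (a i)) = C (a i) from (substM M').commutes (a i)]
  have hGe : finSuccEquiv K 3 G = Polynomial.X * Polynomial.C q + Polynomial.C c := by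
    rw [hqc, map_add, map_mul, finSuccEquiv_X_zero, finSuccEquiv_lift', finSuccEquiv_lift']
  have hrel : IsRelPrime q c := by
    intro h hhq hhc
    obtain ⟨q', rfl⟩ := hhq
    obtain ⟨c', rfl⟩ := hhc
    have hirr' : Irreducible (finSuccEquiv K 3 G) := (MulEquiv.irreducible_iff (finSuccEquiv K 3)).2 hGirr
    have hfac : finSuccEquiv K 3 G = Polynomial.C h * (Polynomial.X * Polynomial.C q' + Polynomial.C c') := by
      rw [hGe, map_mul, map_mul]; ring
    rcases hirr'.isUnit_or_isUnit hfac with hu | hu
    · exact Polynomial.isUnit_C.1 hu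
    · exfalso
      have hdeg := Polynomial.natDegree_eq_zero_of_isUnit hu
      rcases eq_or_ne q' 0 with h0 | h0
      · exact hq0 (by rw [h0, mul_zero])
      · rw [mul_comm, Polynomial.natDegree_linear h0] at hdeg
        exact one_ne_zero hdeg
  have hc0 : c ≠ 0 := by
    rintro rfl
    obtain hu := isRelPrime_zero_right.1 hrel
    obtain ⟨r, -, hr⟩ := MvPolynomial.isUnit_iff_eq_C_of_isReduced.1 hu
    have := hq.inj_right (hr ▸ isHomogeneous_C _ r) hq0
    omega
  -- lines through `a` are points of `q = c = 0`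
  have hsec : ∀ (v : Fin 3 → K), (∀ t : K, eval (Fin.cons t v) G = 0) → eval v q = 0 ∧ eval v c = 0 := by
    intro v hv
    have h0 := hv 0
    have h1 := hv 1
    simp only [hqc, map_add, map_mul, eval_X, Fin.cons_zero, zero_mul, one_mul, zero_add, lift', eval_rename,
      show ∀ t : K, (Fin.cons t v : Fin 4 → K) ∘ Fin.succ = v from fun t => funext fun i => Fin.cons_succ _ _ _] at h0 h1
    exact ⟨by simpa [h0] using h1, h0⟩
  by_contra hcon
  obtain ⟨t, htsub, htcard⟩ := Set.exists_subset_encard_eq
    (k := 7) (Order.add_one_le_of_lt (lt_of_not_ge hcon))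
  have htfin : t.Finite := Set.finite_of_encard_eq_coe htcard
  have hrep : ∀ U ∈ t, ∃ v : Fin 3 → K, v ≠ 0 ∧ eval v q = 0 ∧ eval v c = 0 ∧
      ∃ s : K, U = Submodule.span K {a, M.mulVec (Fin.cons s v)} := by
    intro U hU
    obtain ⟨haU, hU2, hUF⟩ := htsub hU
    obtain ⟨w, hwU, hw⟩ : ∃ w ∈ U, w ∉ Submodule.span K {a} := by
      by_contra h
      push Not at h
      have := Submodule.finrank_mono (h : U ≤ Submodule.span K {a})
      rw [hU2, finrank_span_singleton ha] at this
      omega
    obtain ⟨z, hz⟩ : ∃ z, z = M'.mulVec w := ⟨_, rfl⟩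
    have hwz : M.mulVec z = w := by rw [hz, Matrix.mulVec_mulVec, hMM', Matrix.one_mulVec]
    have hcons : (Fin.cons (z 0) (Fin.tail z) : Fin 4 → K) = z := Fin.cons_self_tail z
    refine ⟨Fin.tail z, fun h => hw ?_, ?_⟩
    · rw [← hwz, ← hcons, h, Submodule.mem_span_singleton]
      refine ⟨z 0, ?_⟩
      rw [show (Fin.cons (z 0) 0 : Fin 4 → K) = z 0 • Pi.single 0 1 from
        funext fun i => by induction i using Fin.cases <;> simp, Matrix.mulVec_smul, hMa]
    have hline : ∀ s : K, eval (Fin.cons s (Fin.tail z)) G = 0 := by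
      intro s
      rw [hGdef, eval_substM, show (Fin.cons s (Fin.tail z) : Fin 4 → K) = (s - z 0) • Pi.single 0 1 + z from
        funext fun i => by induction i using Fin.cases <;> simp [Fin.tail], Matrix.mulVec_add, Matrix.mulVec_smul, hMa, hwz]
      exact hUF _ (add_mem (U.smul_mem _ haU) hwU)
    refine ⟨(hsec _ hline).1, (hsec _ hline).2, z 0, ?_⟩
    rw [hcons, hwz]
    refine (Submodule.eq_of_le_of_finrank_le (Submodule.span_le.2 ?_) ?_).symm
    · rintro x (rfl | rfl) <;> assumption
    · rw [hU2]
      have hli : LinearIndependent K ![a, w] := by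
        rw [LinearIndependent.pair_iff' ha]
        exact fun r hr => hw (Submodule.mem_span_singleton.2 ⟨r, hr⟩)
      have h2 := finrank_span_eq_card hli
      rw [Matrix.range_cons_cons_empty] at h2
      simp [h2]
  choose! vf hv0 hvq hvc sf hU using hrep
  have hprop : ∀ U ∈ t, ∀ U' ∈ t, ∀ r : K, vf U = r • vf U' → U ≤ U' := by
    intro U hU1 U' hU2 r hr
    have e : (Fin.cons (sf U) (vf U) : Fin 4 → K) = r • Fin.cons (sf U') (vf U') + (sf U - r * sf U') • Pi.single 0 1 :=
      funext fun i => by induction i using Fin.cases <;> simp [hr]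
    rw [hU U hU1, hU U' hU2, Submodule.span_le]
    rintro x (rfl | rfl)
    · exact Submodule.subset_span (by simp)
    · rw [e, Matrix.mulVec_add, Matrix.mulVec_smul, Matrix.mulVec_smul, hMa]
      exact add_mem (Submodule.smul_mem _ _ (Submodule.subset_span (by simp)))
        (Submodule.smul_mem _ _ (Submodule.subset_span (by simp)))
  have hinj : Set.InjOn vf t := fun U hU1 U' hU2 e => le_antisymm (hprop U hU1 U' hU2 1 (by rw [one_smul, e]))
    (hprop U' hU2 U hU1 1 (by rw [one_smul, e]))
  let T : Finset (Fin 3 → K) := htfin.toFinset.image vf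
  have hT : T.card = 7 := by
    rw [Finset.card_image_of_injOn (by simpa using hinj)]
    rw [htfin.encard_eq_coe_toFinset_card] at htcard
    exact_mod_cast htcard
  have := card_le hq hc hq0 hc0 hrel T
    (fun v hv => by obtain ⟨U, hU', rfl⟩ := Finset.mem_image.1 hv; exact hv0 U (by simpa using hU'))
    (fun v hv w hw hne r e => by
      obtain ⟨U, hU1, rfl⟩ := Finset.mem_image.1 hv
      obtain ⟨U', hU2, rfl⟩ := Finset.mem_image.1 hw
      have h1 : U ∈ t := by simpa using hU1
      have h2 : U' ∈ t := by simpa using hU2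
      have hle := hprop U h1 U' h2 r e
      have heq := Submodule.eq_of_le_of_finrank_le hle (by rw [(htsub h1).2.1, (htsub h2).2.1])
      exact hne (by rw [heq]))
    (fun v hv => by obtain ⟨U, hU', rfl⟩ := Finset.mem_image.1 hv; exact hvq U (by simpa using hU'))
    (fun v hv => by obtain ⟨U, hU', rfl⟩ := Finset.mem_image.1 hv; exact hvc U (by simpa using hU'))
  omega

end PlaneBezoutLib
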